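import Groth.Agent.AbTorus.Basic
import Groth.Agent.MTBridge.ExtCentral
import Groth.Agent.SekK.GenFibre
import Groth.Prelude.Def_WeilRes

/-!
Homomorphisms from a torus to a Weil restriction of a proper group are trivial.
-/

set_option autoImplicit false
set_option linter.style.haveILetI false
set_option backward.isDefEq.respectTransparency false
set_option backward.isDefEq.respectTransparency.types false
set_option synthInstance.maxHeartbeats 200000

universe u

open CategoryTheory CategoryTheory.Limits MonoidalCategory CartesianMonoidalCategory MonObj AlgebraicGeometry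
open scoped CategoryTheory.Obj

noncomputable section

namespace Groth.Agent.WeilNoGm

variable {S S' Ω : Scheme.{u}}

/-- Morphisms commute with multiplication of points under a change of base. -/
theorem map_map_mul {G : Over S} [GrpObj G] (σ : Ω ⟶ S) {U V : Over Ω} (k : V ⟶ U) (a b : (Over.map σ).obj U ⟶ G) :
    (Over.map σ).map k ≫ (a * b) = ((Over.map σ).map k ≫ a) * ((Over.map σ).map k ≫ b) :=
  MonObj.comp_mul _ _ _

/-- A torus has no homomorphism to the base change of a Weil restriction of a proper group. -/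
theorem eq_one_of_torus (f : S' ⟶ S) (σ : Ω ⟶ S) (E : Over S') [GrpObj E] [IsProper E.hom]
    (R : Over S) [GrpObj R] (q : Red.bc f R ⟶ E) [IsMonHom q] (hR : WeilRes.IsWeilRes f E R q)
    (T : Over Ω) [GrpObj T] (hT : Red.IsTorus (Red.bc (pullback.fst σ f) T))
    (φ : T ⟶ Red.bc σ R) [IsMonHom φ] : φ = 1 := by
  let pr : pullback σ f ⟶ Ω := pullback.fst σ f
  let σ' : pullback σ f ⟶ S' := pullback.snd σ f
  let kV : ∀ V : Over (pullback σ f), (Over.map σ').obj V ⟶ Red.bc f ((Over.map σ).obj ((Over.map pr).obj V)) :=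
    fun V => Over.homMk (pullback.lift (𝟙 _) (V.hom ≫ σ') (by simp [pr, σ', pullback.condition]))
      (by exact pullback.lift_snd _ _ _)
  let val : ∀ (V : Over (pullback σ f)), (V ⟶ Red.bc pr T) → ((Over.map σ').obj V ⟶ E) := fun V x =>
    kV V ≫ WeilRes.restr f q _ (SekK.toBase (SekK.toBase x ≫ φ))
  have val_comp : ∀ {U V : Over (pullback σ f)} (k : V ⟶ U) (x : U ⟶ Red.bc pr T),
      val V (k ≫ x) = (Over.map σ').map k ≫ val U x := by
    intro U V k x
    have h1 : SekK.toBase (τ := pr) (k ≫ x) = (Over.map pr).map k ≫ SekK.toBase x :=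
      (Over.mapPullbackAdj pr).homEquiv_naturality_left_symm _ _
    have h2 : SekK.toBase (τ := σ) ((Over.map pr).map k ≫ (SekK.toBase x ≫ φ)) =
        (Over.map σ).map ((Over.map pr).map k) ≫ SekK.toBase (SekK.toBase x ≫ φ) :=
      (Over.mapPullbackAdj σ).homEquiv_naturality_left_symm _ _
    show kV V ≫ WeilRes.restr f q _ _ = _
    rw [h1, Category.assoc, h2, WeilRes.restr_comp, ← Category.assoc]
    show _ = (Over.map σ').map k ≫ kV U ≫ _
    rw [← Category.assoc]
    congr 1
    apply Over.OverMorphism.ext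
    apply pullback.hom_ext <;> simp [kV]
    exact Category.id_comp _
  let F : Red.bc pr T ⟶ Red.bc σ' E :=
    (Over.mapPullbackAdj σ').homEquiv _ _ (val _ (𝟙 _))
  have hF : ∀ {V : Over (pullback σ f)} (x : V ⟶ Red.bc pr T), SekK.toBase (x ≫ F) = val V x := fun {V} x => by
    show ((Over.mapPullbackAdj σ').homEquiv _ _).symm (x ≫ F) = _
    rw [(Over.mapPullbackAdj σ').homEquiv_naturality_left_symm, Equiv.symm_apply_apply, ← val_comp,
      Category.comp_id]
  haveI : IsMonHom F := MTBridge.isMonHom_of_points F fun X x y => SekK.toBase_injective (by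
    rw [SekK.toBase_mul, hF, hF, hF]
    show kV X ≫ _ = (kV X ≫ _) * (kV X ≫ _)
    rw [SekK.toBase_mul, MonObj.mul_comp, SekK.toBase_mul, WeilRes.restr_mul, MonObj.comp_mul])
  haveI : IsProper (Red.bc σ' E).hom := inferInstanceAs (IsProper (pullback.snd E.hom σ'))
  have hF1 : F = 1 := AbTorus.eq_one hT F
  let T₀ : Over S := (Over.map σ).obj T
  let V : Over (pullback σ f) := Over.mk (pullback.lift (pullback.fst T₀.hom f ≫ T.hom) (pullback.snd T₀.hom f)
    (by rw [Category.assoc]; exact pullback.condition))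
  let a : (Over.map pr).obj V ⟶ T := Over.homMk (pullback.fst T₀.hom f) (by simp [V, pr])
  let x : V ⟶ Red.bc pr T := (Over.mapPullbackAdj pr).homEquiv _ _ a
  have hx : SekK.toBase x = a := Equiv.symm_apply_apply _ _
  let j : Red.bc f T₀ ⟶ (Over.map σ').obj V := Over.homMk (𝟙 _) (by
    exact (Category.id_comp _).trans (pullback.lift_snd _ _ _))
  have h0 : val V x = 1 := by
    rw [← hF, hF1, MonObj.comp_one]
    have h := SekK.toBase_mul (1 : V ⟶ Red.bc σ' E) 1
    rw [_root_.mul_one] at h
    exact mul_eq_left.1 h.symm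
  have key : WeilRes.restr f q T₀ (SekK.toBase φ) = 1 := by
    have h1 : SekK.toBase (τ := σ) (a ≫ φ) = (Over.map σ).map a ≫ SekK.toBase φ :=
      (Over.mapPullbackAdj σ).homEquiv_naturality_left_symm _ _
    have h2 : j ≫ val V x = WeilRes.restr f q T₀ (SekK.toBase φ) := by
      show j ≫ kV V ≫ _ = _
      rw [hx, h1, WeilRes.restr_comp, ← Category.assoc, ← Category.assoc]
      have : (j ≫ kV V) ≫ (Over.pullback f).map ((Over.map σ).map a) = 𝟙 _ := by
        apply Over.OverMorphism.ext
        apply pullback.hom_ext <;> simp [kV, j, a, V, σ']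
        all_goals rfl
      rw [this, Category.id_comp]
    rw [← h2, h0, MonObj.comp_one]
  have h3 : SekK.toBase φ = 1 := (hR T₀).1 (key.trans (WeilRes.restr_one f q T₀).symm)
  apply SekK.toBase_injective
  rw [h3]
  have h := SekK.toBase_mul (1 : T ⟶ Red.bc σ R) 1
  rw [_root_.mul_one] at h
  exact (mul_eq_left.1 h.symm).symm

end Groth.Agent.WeilNoGm
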